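/-
A nonzero symmetric matrix has at least `(q ^ n - 1) / 2` congruent matrices.
-/
import Mathlib

set_option autoImplicit false

namespace CfsgLib.Classical.WeilSp

open Matrix

variable {F : Type*} [Field F]

theorem exists_gl_col {n : ℕ} {v : Fin (n + 1) → F} (hv : v ≠ 0) :
    ∃ g : Matrix (Fin (n + 1)) (Fin (n + 1)) F, g.det ≠ 0 ∧ g *ᵥ Pi.single 0 1 = v := by
  classical
  obtain ⟨i, hi⟩ := Function.ne_iff.1 hv
  refine ⟨(1 + vecMulVec (v - Pi.single i 1) (Pi.single i 1)) * (Equiv.swap i 0).permMatrix F, ?_, ?_⟩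
  · rw [det_mul, det_permutation]
    refine mul_ne_zero ?_ ?_
    · rw [vecMulVec_eq (ι := Unit), det_one_add_replicateCol_mul_replicateRow]
      simpa using hi
    · rcases Int.units_eq_one_or (Equiv.Perm.sign (Equiv.swap i 0)) with h | h <;> simp [h]
  · rw [← mulVec_mulVec, permMatrix_mulVec]
    have e : ((Pi.single 0 (1 : F) : Fin (n + 1) → F) ∘ Equiv.swap i 0) = Pi.single i 1 := by
      funext j
      simp only [Function.comp_apply, Pi.single_apply]
      by_cases hj : j = i
      · simp [hj]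
      · rw [if_neg hj, if_neg]
        intro h
        apply hj
        have := congrArg (Equiv.swap i 0) h
        simpa using this
    rw [e, add_mulVec, one_mulVec, vecMulVec_mulVec, op_smul_eq_smul]
    simp

theorem exists_anisotropic {n : ℕ} (h2 : (2 : F) ≠ 0) {A : Matrix (Fin n) (Fin n) F} (hA : A.IsSymm) (h0 : A ≠ 0) :
    ∃ a, a ⬝ᵥ A *ᵥ a ≠ 0 := by
  classical
  by_contra h
  push Not at h
  refine h0 (Matrix.ext fun i j => ?_)
  have hii : ∀ i, A i i = 0 := fun i => by simpa using h (Pi.single i 1)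
  have hij := h (Pi.single i 1 + Pi.single j 1)
  simp [mulVec_add, hii, hA.apply i j] at hij
  exact (mul_eq_zero.1 ((two_mul _).trans hij)).resolve_left h2

/-- A nondegenerate symmetric form in at least two variables represents every scalar. -/
theorem exists_value [Fintype F] {n : ℕ} (hn : 2 ≤ n) (h2 : ringChar F ≠ 2) {A : Matrix (Fin n) (Fin n) F}
    (hA : A.IsSymm) (hd : A.det ≠ 0) (c : F) (hc : c ≠ 0) : ∃ v, v ≠ 0 ∧ v ⬝ᵥ A *ᵥ v = c := by
  classical
  have h2' : (2 : F) ≠ 0 := Ring.two_ne_zero h2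
  have h0 : A ≠ 0 := fun e => hd (by
    haveI : Nonempty (Fin n) := ⟨⟨0, by omega⟩⟩
    rw [e, det_zero])
  obtain ⟨a, ha⟩ := exists_anisotropic h2' hA h0
  have hsym : ∀ x y, x ⬝ᵥ A *ᵥ y = y ⬝ᵥ A *ᵥ x := fun x y => by
    rw [dotProduct_mulVec, ← mulVec_transpose, hA.eq, dotProduct_comm]
  obtain ⟨b, hab, hb⟩ : ∃ b, a ⬝ᵥ A *ᵥ b = 0 ∧ b ⬝ᵥ A *ᵥ b ≠ 0 := by
    by_contra h
    push Not at h
    let f : (Fin n → F) →ₗ[F] (Unit → F) :=
      { toFun := fun x _ => a ⬝ᵥ A *ᵥ x
        map_add' := fun x y => by ext; simp [mulVec_add, dotProduct_add]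
        map_smul' := fun r x => by ext; simp [mulVec_smul, dotProduct_smul] }
    obtain ⟨x, hx, hx0⟩ := Submodule.exists_mem_ne_zero_of_ne_bot
      (LinearMap.ker_ne_bot_of_finrank_lt (f := f) (by simp; omega))
    have hxa : a ⬝ᵥ A *ᵥ x = 0 := congrFun (LinearMap.mem_ker.1 hx) ()
    refine hx0 (Matrix.eq_zero_of_mulVec_eq_zero hd (funext fun i => ?_))
    have key : ∀ y, x ⬝ᵥ A *ᵥ y = 0 := by
      intro y
      set y' := y - (a ⬝ᵥ A *ᵥ y / (a ⬝ᵥ A *ᵥ a)) • a with hy'
      have h1 : a ⬝ᵥ A *ᵥ y' = 0 := by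
        rw [hy', mulVec_sub, mulVec_smul, dotProduct_sub, dotProduct_smul, smul_eq_mul, div_mul_cancel₀ _ ha, sub_self]
      have h3 := h (x + y') (by rw [mulVec_add, dotProduct_add, hxa, h1, add_zero])
      rw [mulVec_add, dotProduct_add, add_dotProduct, add_dotProduct, h x hxa, h y' h1, hsym y' x, zero_add,
        add_zero, ← two_mul, mul_eq_zero] at h3
      have h4 := h3.resolve_left h2'
      rwa [hy', mulVec_sub, mulVec_smul, dotProduct_sub, dotProduct_smul, hsym x a, hxa, smul_zero, sub_zero] at h4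
    have := key (Pi.single i 1)
    rw [hsym] at this
    simpa using this
  set α := a ⬝ᵥ A *ᵥ a
  set β := b ⬝ᵥ A *ᵥ b
  have hq : Fintype.card F % 2 = 1 := FiniteField.odd_card_of_char_ne_two h2
  obtain ⟨s, t, hst⟩ := FiniteField.exists_root_sum_quadratic
    (f := Polynomial.C α * Polynomial.X ^ 2 - Polynomial.C c) (g := Polynomial.C β * Polynomial.X ^ 2)
    (by rw [Polynomial.degree_sub_C (by rw [Polynomial.degree_C_mul_X_pow 2 ha]; decide)]
        exact Polynomial.degree_C_mul_X_pow 2 ha)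
    (Polynomial.degree_C_mul_X_pow 2 hb) hq
  simp at hst
  have hv : (s • a + t • b) ⬝ᵥ A *ᵥ (s • a + t • b) = c := by
    simp only [mulVec_add, mulVec_smul, dotProduct_add, add_dotProduct, dotProduct_smul, smul_dotProduct, smul_eq_mul,
      hab, hsym b a]
    linear_combination hst
  exact ⟨_, fun e => hc (by rw [← hv, e, zero_dotProduct]), hv⟩

/-- The zero border of a matrix. -/
def pad {n : ℕ} (B : Matrix (Fin n) (Fin n) F) : Matrix (Fin (n + 1)) (Fin (n + 1)) F :=
  Matrix.of (Fin.cons 0 fun i => Fin.cons 0 (B i))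

theorem congr_apply {n : ℕ} (g A : Matrix (Fin n) (Fin n) F) (i j : Fin n) :
    (gᵀ * A * g) i j = (g *ᵥ Pi.single i 1) ⬝ᵥ A *ᵥ (g *ᵥ Pi.single j 1) := by
  rw [mulVec_mulVec, mulVec_single_one, mulVec_single_one, Matrix.mul_assoc, Matrix.mul_apply]
  rfl

variable [Fintype F]

theorem card_values [DecidableEq F] (α : F) (hα : α ≠ 0) :
    Fintype.card F - 1 ≤ 2 * ((Finset.univ.erase (0 : F)).image fun x => α * (x * x)).card := by
  have h := Finset.card_le_mul_card_image (Finset.univ.erase (0 : F)) (f := fun x => α * (x * x)) 2 fun c hc => by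
    obtain ⟨x, -, rfl⟩ := Finset.mem_image.1 hc
    refine (Finset.card_le_card (t := {x, -x}) fun y hy => ?_).trans Finset.card_le_two
    rw [Finset.mem_filter] at hy
    rcases mul_self_eq_mul_self_iff.1 (mul_left_cancel₀ hα hy.2) with h | h <;> simp [h]
  rwa [Finset.card_erase_of_mem (Finset.mem_univ _), Finset.card_univ] at h

/-- Congruence classes of nonzero symmetric matrices are large. -/
theorem orbit_card (h2 : ringChar F ≠ 2) : ∀ (n : ℕ) (S : Finset (Matrix (Fin n) (Fin n) F)),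
    (∀ g : Matrix (Fin n) (Fin n) F, g.det ≠ 0 → ∀ B ∈ S, gᵀ * B * g ∈ S) →
    ∀ A ∈ S, A.IsSymm → A ≠ 0 → Fintype.card F ^ n - 1 ≤ 2 * S.card
  | 0, _, _, _, _, _, _ => by simp
  | n + 1, S, hS, A, hAS, hA, h0 => by
    classical
    set q := Fintype.card F with hq
    have hq2 : 2 ≤ q := Fintype.one_lt_card
    have h2' : (2 : F) ≠ 0 := Ring.two_ne_zero h2
    -- matrices with a prescribed first row
    have hrow : ∀ C : Finset F, (∀ c ∈ C, c ≠ 0 ∧ ∃ v, v ≠ 0 ∧ v ⬝ᵥ A *ᵥ v = c) →
        C.card * q ^ n ≤ (S.filter fun B => B 0 0 ≠ 0).card := by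
      intro C hC
      have hex : ∀ p : C × (Fin n → F), ∃ B ∈ S, B 0 0 = p.1 ∧ ∀ j : Fin n, B 0 j.succ = p.2 j := by
        rintro ⟨⟨c, hc⟩, r⟩
        obtain ⟨hc0, v, hv, hval⟩ := hC c hc
        obtain ⟨g, hg, hgv⟩ := exists_gl_col hv
        set B := gᵀ * A * g with hB
        have hB00 : B 0 0 = c := by rw [hB, congr_apply, hgv, hval]
        let η : Fin (n + 1) → F := Fin.cons 0 fun j => (r j - B 0 j.succ) / c
        have hη : (η ⬝ᵥ Pi.single 0 1 : F) = 0 := by simp [η]
        refine ⟨(1 + vecMulVec (Pi.single 0 1) η)ᵀ * B * (1 + vecMulVec (Pi.single 0 1) η), hS _ ?_ _ (hS _ hg _ hAS),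
          ?_, fun j => ?_⟩
        · rw [vecMulVec_eq (ι := Unit), det_one_add_replicateCol_mul_replicateRow, hη, add_zero]
          exact one_ne_zero
        · rw [congr_apply, add_mulVec, one_mulVec, vecMulVec_mulVec, hη]
          simp [hB00]
        · rw [congr_apply, add_mulVec, one_mulVec, vecMulVec_mulVec, hη, add_mulVec, one_mulVec, vecMulVec_mulVec,
            op_smul_eq_smul, op_smul_eq_smul, zero_smul, add_zero, mulVec_add, mulVec_smul, dotProduct_add,
            dotProduct_smul]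
          simp [η, hB00, div_mul_cancel₀ _ hc0]
      choose B hB hB1 hB2 using hex
      have h := Finset.card_le_card_of_injOn (s := (Finset.univ : Finset (C × (Fin n → F))))
        (t := S.filter fun B => B 0 0 ≠ 0) B
        (fun p _ => Finset.mem_filter.2 ⟨hB p, by rw [hB1]; exact (hC _ p.1.2).1⟩)
        (fun p _ p' _ e => Prod.ext (Subtype.ext (by rw [← hB1 p, ← hB1 p', e]))
          (funext fun j => by rw [← hB2 p j, ← hB2 p' j, e]))
      simpa using h
    by_cases hd : A.det ≠ 0 ∧ 1 ≤ n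
    · have h := hrow (Finset.univ.erase 0) fun c hc =>
        ⟨Finset.ne_of_mem_erase hc, exists_value (by omega) h2 hA hd.1 c (Finset.ne_of_mem_erase hc)⟩
      rw [Finset.card_erase_of_mem (Finset.mem_univ _), Finset.card_univ, ← hq] at h
      have h' := h.trans (Finset.card_filter_le _ _)
      have h1 : q * q ^ n ≤ 2 * ((q - 1) * q ^ n) := by
        rw [← mul_assoc]; exact Nat.mul_le_mul_right _ (by omega)
      rw [pow_succ', ]
      omega
    obtain ⟨a, ha⟩ := exists_anisotropic h2' hA h0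
    have h := hrow ((Finset.univ.erase (0 : F)).image fun x => a ⬝ᵥ A *ᵥ a * (x * x)) fun c hc => by
      obtain ⟨x, hx, rfl⟩ := Finset.mem_image.1 hc
      have hx0 := Finset.ne_of_mem_erase hx
      refine ⟨mul_ne_zero ha (mul_ne_zero hx0 hx0), x • a, smul_ne_zero hx0 fun e => ha (by rw [e, zero_dotProduct]), ?_⟩
      rw [mulVec_smul, dotProduct_smul, smul_dotProduct, smul_eq_mul, smul_eq_mul]; ring
    have h1 := (Nat.mul_le_mul_right (q ^ n) (card_values _ ha)).trans (le_of_eq (mul_assoc _ _ _))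
    have hsplit : (S.filter fun B => B 0 0 ≠ 0).card + (S.filter fun B => ¬ B 0 0 ≠ 0).card = S.card :=
      Finset.card_filter_add_card_filter_not _
    rw [Nat.sub_mul, one_mul, ← hq] at h1
    rcases Nat.eq_zero_or_pos n with hn | hn
    · subst hn
      simp only [pow_zero, mul_one] at h h1
      rw [pow_one]
      omega
    -- a radical vector
    obtain ⟨z, hz0, hz⟩ := Matrix.exists_mulVec_eq_zero_iff.2 (by by_contra h; exact hd ⟨h, hn⟩ : A.det = 0)
    obtain ⟨g, hg, hgv⟩ := exists_gl_col hz0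
    set B := gᵀ * A * g with hB
    have hBsym : B.IsSymm := by
      rw [Matrix.IsSymm, hB, transpose_mul, transpose_mul, transpose_transpose, hA.eq, Matrix.mul_assoc]
    have hrow0 : ∀ j, B j 0 = 0 := fun j => by rw [hB, congr_apply, hgv, hz, dotProduct_zero]
    have hB0 : B ≠ 0 := fun e => by
      have hu : IsUnit g.det := isUnit_iff_ne_zero.2 hg
      have hu' : IsUnit gᵀ.det := by rwa [det_transpose]
      refine h0 ?_
      have e' := congrArg (fun X => gᵀ⁻¹ * X * g⁻¹) e
      simpa [hB, Matrix.mul_assoc, Matrix.mul_nonsing_inv g hu, Matrix.nonsing_inv_mul_cancel_left gᵀ _ hu'] using e'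
    let B' : Matrix (Fin n) (Fin n) F := B.submatrix Fin.succ Fin.succ
    have hpad : pad B' = B := by
      ext i j
      refine Fin.cases ?_ (fun i => ?_) i <;> refine Fin.cases ?_ (fun j => ?_) j <;> simp [pad, B', hrow0]
      rw [← hBsym.apply, hrow0]
    let S' : Finset (Matrix (Fin n) (Fin n) F) := Finset.univ.filter fun C => pad C ∈ S
    have hS' : ∀ g' : Matrix (Fin n) (Fin n) F, g'.det ≠ 0 → ∀ C ∈ S', g'ᵀ * C * g' ∈ S' := by
      intro g' hg' C hC
      simp only [S', Finset.mem_filter, Finset.mem_univ, true_and] at hC ⊢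
      let G : Matrix (Fin (n + 1)) (Fin (n + 1)) F := Matrix.of (Fin.cons (Fin.cons 1 0) fun i => Fin.cons 0 (g' i))
      have hG : G.det = g'.det := by
        rw [Matrix.det_succ_row_zero, Fin.sum_univ_succ]
        simp [G]
        rfl
      have e : Gᵀ * pad C * G = pad (g'ᵀ * C * g') := by
        ext i j
        rw [Matrix.mul_assoc, Matrix.mul_apply, Fin.sum_univ_succ]
        simp only [Matrix.mul_apply, Fin.sum_univ_succ]
        refine Fin.cases ?_ (fun i => ?_) i <;> refine Fin.cases ?_ (fun j => ?_) j <;>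
          simp [pad, G, Matrix.mul_apply, Finset.mul_sum, mul_assoc]
      rw [← e]
      exact hS G (by rw [hG]; exact hg') _ hC
    have hB'S : B' ∈ S' := by
      simp only [S', Finset.mem_filter, Finset.mem_univ, true_and, hpad]
      exact hS g hg A hAS
    have h3 := orbit_card h2 n S' hS' B' hB'S (hBsym.submatrix Fin.succ) fun e => hB0 (by
      rw [← hpad, e]; ext i j
      refine Fin.cases ?_ (fun i => ?_) i <;> refine Fin.cases ?_ (fun j => ?_) j <;> simp [pad])
    have h4 : S'.card ≤ (S.filter fun B => ¬ B 0 0 ≠ 0).card := by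
      refine Finset.card_le_card_of_injOn pad (fun C hC => ?_) fun C _ C' _ e => Matrix.ext fun i j => ?_
      · simp only [S', Finset.mem_filter, Finset.mem_univ, true_and, Finset.mem_coe] at hC
        refine Finset.mem_filter.2 ⟨hC, ?_⟩
        simp [pad]
      · simpa [pad] using congrFun (congrFun e i.succ) j.succ
    have hp : 1 ≤ q ^ n := Nat.one_le_pow _ _ (by omega)
    have hp' : q ^ n ≤ q * q ^ n := Nat.le_mul_of_pos_left _ (by omega)
    rw [pow_succ']
    rw [← hq] at h3
    omega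

end CfsgLib.Classical.WeilSp
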