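/-
Nontrivial representations of a symplectic group over a field of odd order have degree at least `(q ^ n - 1) / 2`.
-/
import Cfsg.Agent.Lib.Classical.WeilSp.SymOrbit
import Cfsg.Agent.Lib.Classical.PSpSimple
import Cfsg.Agent.Lib.LinDeg.Spectral

set_option autoImplicit false

namespace CfsgLib.Classical.WeilSp

open Matrix Module
open scoped commutatorElement

variable {F : Type*} [Field F] {n : ℕ}

/-- Square matrices from flattened vectors. -/
def mat (v : Fin (n * n) → F) : Matrix (Fin n) (Fin n) F := Matrix.of fun i j => v (finProdFinEquiv (i, j))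

/-- Flattened vectors from square matrices. -/
def unmat (M : Matrix (Fin n) (Fin n) F) : Fin (n * n) → F :=
  fun k => M (finProdFinEquiv.symm k).1 (finProdFinEquiv.symm k).2

theorem mat_unmat (M : Matrix (Fin n) (Fin n) F) : mat (unmat M) = M := by
  ext i j; simp [mat, unmat]

theorem unmat_mat (v : Fin (n * n) → F) : unmat (mat v) = v := by
  funext k
  show v (finProdFinEquiv ((finProdFinEquiv.symm k).1, (finProdFinEquiv.symm k).2)) = v k
  rw [Prod.mk.eta, Equiv.apply_symm_apply]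

theorem mat_add (v w : Fin (n * n) → F) : mat (v + w) = mat v + mat w := rfl

theorem dot_eq_trace (v w : Fin (n * n) → F) : v ⬝ᵥ w = ((mat v)ᵀ * mat w).trace := by
  simp only [Matrix.trace, Matrix.diag_apply, Matrix.mul_apply, transpose_apply, mat, of_apply, dotProduct]
  rw [← finProdFinEquiv.sum_comp, Fintype.sum_prod_type, Finset.sum_comm]

/-- An upper unipotent element of the symplectic group. -/
def upS (S : Matrix (Fin n) (Fin n) F) (hS : Sᵀ = S) : Matrix.symplecticGroup (Fin n) F :=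
  ⟨fromBlocks 1 S 0 1, by
    rw [SymplecticGroup.mem_iff]
    simp [Matrix.J, fromBlocks_transpose, fromBlocks_multiply, hS]⟩

theorem upS_val (S : Matrix (Fin n) (Fin n) F) (hS : Sᵀ = S) :
    (upS S hS).1 = fromBlocks 1 S 0 1 := rfl

/-- A Levi element. -/
noncomputable def levi (g : Matrix (Fin n) (Fin n) F) (hg : g.det ≠ 0) : Matrix.symplecticGroup (Fin n) F :=
  ⟨fromBlocks g 0 0 (g⁻¹)ᵀ, by
    have hu : IsUnit g.det := isUnit_iff_ne_zero.2 hg
    rw [SymplecticGroup.mem_iff]
    simp [Matrix.J, fromBlocks_transpose, fromBlocks_multiply, ← transpose_mul, Matrix.mul_nonsing_inv g hu,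
      Matrix.transpose_nonsing_inv, Matrix.mul_nonsing_inv gᵀ (by rwa [det_transpose]),
      Matrix.nonsing_inv_mul gᵀ (by rwa [det_transpose])]⟩

theorem upS_central {S : Matrix (Fin n) (Fin n) F} (hS : Sᵀ = S)
    (h : upS S hS ∈ Subgroup.center (Matrix.symplecticGroup (Fin n) F)) : S = 0 := by
  have hJ : Matrix.J (Fin n) F ∈ Matrix.symplecticGroup (Fin n) F := SymplecticGroup.J_mem (Fin n) F
  have e := congrArg Subtype.val (Subgroup.mem_center_iff.1 h ⟨_, hJ⟩)
  rw [Submonoid.coe_mul, Submonoid.coe_mul, upS_val] at e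
  simp only [Matrix.J, fromBlocks_multiply, Matrix.one_mul, Matrix.mul_one, Matrix.mul_zero, Matrix.zero_mul,
    zero_add, add_zero, fromBlocks_inj, Matrix.mul_neg, neg_inj] at e
  simpa using e.1.symm

variable [Fintype F]

theorem perfect (hn : 2 ≤ n) (h3 : 3 ≤ Fintype.card F) :
    commutator (Matrix.symplecticGroup (Fin n) F) = ⊤ :=
  CfsgLib.Classical.commutator_symplectic (by
    rcases Nat.lt_or_ge n 3 with h | h
    · exact Or.inr (Or.inl ⟨by omega, h3⟩)
    · exact Or.inl h)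

theorem commutator_center_left {G : Type*} [Group G] {z₁ z₂ : G} (h₁ : z₁ ∈ Subgroup.center G)
    (h₂ : z₂ ∈ Subgroup.center G) (m₁ m₂ : G) : ⁅m₁ * z₁, m₂ * z₂⁆ = ⁅m₁, m₂⁆ := by
  have c1 := Subgroup.mem_center_iff.1 h₁
  have c2 := Subgroup.mem_center_iff.1 h₂
  simp only [commutatorElement_def, _root_.mul_inv_rev]
  calc m₁ * z₁ * (m₂ * z₂) * (z₁⁻¹ * m₁⁻¹) * (z₂⁻¹ * m₂⁻¹)
      = m₁ * (z₁ * (m₂ * z₂)) * (z₁⁻¹ * m₁⁻¹) * (z₂⁻¹ * m₂⁻¹) := by group
    _ = m₁ * (m₂ * z₂ * z₁) * (z₁⁻¹ * m₁⁻¹) * (z₂⁻¹ * m₂⁻¹) := by rw [c1]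
    _ = m₁ * m₂ * (z₂ * m₁⁻¹) * (z₂⁻¹ * m₂⁻¹) := by group
    _ = m₁ * m₂ * (m₁⁻¹ * z₂) * (z₂⁻¹ * m₂⁻¹) := by rw [c2 m₁⁻¹]
    _ = m₁ * m₂ * m₁⁻¹ * m₂⁻¹ := by group

theorem eq_top_of_normal (hn : 2 ≤ n) (h3 : 3 ≤ Fintype.card F) {N : Subgroup (Matrix.symplecticGroup (Fin n) F)}
    [N.Normal] {x : Matrix.symplecticGroup (Fin n) F} (hx : x ∈ N) (hxc : x ∉ Subgroup.center _) : N = ⊤ := by
  haveI := CfsgLib.Classical.psp_isSimple (F := F) hn fun _ => h3
  set π := QuotientGroup.mk' (Subgroup.center (Matrix.symplecticGroup (Fin n) F)) with hπ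
  have hNn : (N.map π).Normal := (inferInstance : N.Normal).map π (QuotientGroup.mk'_surjective _)
  have htop : N.map π = ⊤ := by
    refine (hNn.eq_bot_or_eq_top).resolve_left fun h => hxc ?_
    have hm : π x ∈ N.map π := Subgroup.mem_map_of_mem π hx
    rw [h, Subgroup.mem_bot] at hm
    exact (QuotientGroup.eq_one_iff x).1 hm
  refine eq_top_iff.2 ((perfect hn h3).symm.le.trans ?_)
  rw [commutator_def, Subgroup.commutator_le]
  intro a _ b _
  have hdec : ∀ c : Matrix.symplecticGroup (Fin n) F, ∃ m ∈ N, m⁻¹ * c ∈ Subgroup.center _ := fun c => by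
    obtain ⟨m, hm, hmc⟩ := (htop.symm ▸ Subgroup.mem_top _ : π c ∈ N.map π)
    exact ⟨m, hm, QuotientGroup.eq.1 hmc⟩
  obtain ⟨m₁, hm₁, hz₁⟩ := hdec a
  obtain ⟨m₂, hm₂, hz₂⟩ := hdec b
  have e : ⁅a, b⁆ = ⁅m₁, m₂⁆ := by
    rw [← commutator_center_left hz₁ hz₂ m₁ m₂, mul_inv_cancel_left, mul_inv_cancel_left]
  rw [e, commutatorElement_def]
  exact mul_mem (mul_mem (mul_mem hm₁ hm₂) (inv_mem hm₁)) (inv_mem hm₂)

/-- The degree bound. -/
theorem degree_bound (hn : 2 ≤ n) (h2 : ringChar F ≠ 2) (h3 : 3 ≤ Fintype.card F)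
    {V : Type*} [AddCommGroup V] [Module ℂ V] [FiniteDimensional ℂ V]
    (ρ : Representation ℂ (Matrix.symplecticGroup (Fin n) F) V) (hne : ∃ x, ρ x ≠ 1) :
    Fintype.card F ^ n - 1 ≤ 2 * finrank ℂ V := by
  classical
  have h2' : (2 : F) ≠ 0 := Ring.two_ne_zero h2
  have hsymm : ∀ v : Fin (n * n) → F, (mat v + (mat v)ᵀ)ᵀ = mat v + (mat v)ᵀ := fun v => by
    rw [transpose_add, transpose_transpose, add_comm]
  have hup : ∀ (S T : Matrix (Fin n) (Fin n) F) (hS : Sᵀ = S) (hT : Tᵀ = T),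
      upS S hS * upS T hT = upS (S + T) (by rw [transpose_add, hS, hT]) := fun S T hS hT => Subtype.ext (by
    rw [Submonoid.coe_mul, upS_val, upS_val, upS_val, fromBlocks_multiply]
    simp [add_comm])
  set τ : (Fin (n * n) → F) → Module.End ℂ V := fun v => ρ (upS _ (hsymm v)) with hτ
  have htr : ∀ v, τ (unmat (mat v)ᵀ) = τ v := fun v => by
    simp only [hτ, mat_unmat, transpose_transpose, add_comm]
  have hadd : ∀ a b, τ (a + b) = τ a * τ b := fun a b => by
    simp only [hτ]
    rw [← map_mul, hup]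
    congr 2
    rw [mat_add, transpose_add]; abel
  have h0 : τ 0 = 1 := by
    simp only [hτ]
    rw [show upS _ (hsymm 0) = 1 from Subtype.ext (by
      rw [upS_val, show mat (0 : Fin (n * n) → F) = 0 from rfl, transpose_zero, add_zero, fromBlocks_one]; rfl), map_one]
  obtain ⟨ψ, hψ⟩ := CfsgLib.LinDeg.exists_primitiveChar F ℂ (by
    rw [ringChar.eq_zero]
    exact fun h => CharP.ringChar_ne_zero_of_finite F h.symm)
  have hK := CfsgLib.LinDeg.card_ne_zero F ℂ (by
    rw [ringChar.eq_zero]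
    exact fun h => CharP.ringChar_ne_zero_of_finite F h.symm)
  set E := CfsgLib.LinDeg.eigProj ψ τ with hE
  -- some element of the radical is moved
  obtain ⟨v₀, hv₀⟩ : ∃ v, τ v ≠ 1 := by
    by_contra hall
    push Not at hall
    obtain ⟨x, hx⟩ := hne
    haveI : (MonoidHom.ker ρ).Normal := inferInstance
    have i₀ : Fin n := ⟨0, by omega⟩
    set S : Matrix (Fin n) (Fin n) F := Matrix.single i₀ i₀ 1 with hS
    have hSs : Sᵀ = S := by rw [hS, transpose_single]
    have hmem : upS S hSs ∈ MonoidHom.ker ρ := by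
      rw [MonoidHom.mem_ker, ← hall (unmat ((2 : F)⁻¹ • S))]
      simp only [hτ]
      congr 2
      rw [mat_unmat, transpose_smul, hSs, ← add_smul, show (2 : F)⁻¹ + 2⁻¹ = 1 by field_simp; norm_num, one_smul]
    have htop := eq_top_of_normal hn h3 hmem fun hc => by
      have := congrFun (congrFun (upS_central hSs hc) i₀) i₀
      simp [hS] at this
    exact hx (MonoidHom.mem_ker.1 (htop ▸ Subgroup.mem_top x))
  -- the occurring characters
  let T : Finset (Matrix (Fin n) (Fin n) F) := Finset.univ.filter fun B => B ≠ 0 ∧ E (unmat B) ≠ 0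
  have hT : ∀ g : Matrix (Fin n) (Fin n) F, g.det ≠ 0 → ∀ B ∈ T, gᵀ * B * g ∈ T := by
    intro g hg B hB
    simp only [T, Finset.mem_filter, Finset.mem_univ, true_and] at hB ⊢
    have hu : IsUnit g.det := isUnit_iff_ne_zero.2 hg
    have hu' : IsUnit gᵀ.det := by rwa [det_transpose]
    refine ⟨fun e => hB.1 ?_, fun e => hB.2 ?_⟩
    · have e' := congrArg (fun X => gᵀ⁻¹ * X * g⁻¹) e
      simpa [Matrix.mul_assoc, Matrix.mul_nonsing_inv g hu, Matrix.nonsing_inv_mul_cancel_left gᵀ _ hu'] using e'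
    · let f : (Fin (n * n) → F) → (Fin (n * n) → F) := fun v => unmat (g * mat v * gᵀ)
      have hf : Function.Bijective f := by
        refine Finite.injective_iff_bijective.1 fun a b hab => ?_
        have := congrArg mat hab
        simp only [f, mat_unmat] at this
        have h' := congrArg (fun X => g⁻¹ * X * gᵀ⁻¹) this
        simp only [Matrix.mul_assoc, Matrix.mul_nonsing_inv gᵀ hu', Matrix.mul_one,
          Matrix.nonsing_inv_mul_cancel_left g _ hu] at h'
        rw [← unmat_mat a, ← unmat_mat b, h']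
      have hc : ρ (levi g hg) * E (unmat (gᵀ * B * g)) = E (unmat B) * ρ (levi g hg) := by
        refine CfsgLib.LinDeg.mul_eigProj_of_conj ψ τ hf (fun v => ?_) fun v => ?_
        · simp only [hτ]
          rw [← map_mul, ← map_mul]
          congr 1
          refine Subtype.ext ?_
          rw [Submonoid.coe_mul, Submonoid.coe_mul, upS_val, upS_val]
          simp only [levi, fromBlocks_multiply, f, mat_unmat]
          have e1 : g * (mat v + (mat v)ᵀ) = (g * mat v * gᵀ + (g * mat v * gᵀ)ᵀ) * (g⁻¹)ᵀ := by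
            have h1 : gᵀ * (g⁻¹)ᵀ = 1 := by rw [← transpose_mul, Matrix.nonsing_inv_mul g hu, transpose_one]
            rw [transpose_mul, transpose_mul, transpose_transpose, ← Matrix.mul_assoc g (mat v)ᵀ, ← add_mul, ← mul_add,
              Matrix.mul_assoc, h1, Matrix.mul_one]
          simp [e1]
        · rw [dot_eq_trace, dot_eq_trace, mat_unmat, mat_unmat]
          simp only [f, mat_unmat]
          rw [transpose_mul, transpose_mul, transpose_transpose, Matrix.mul_assoc g, Matrix.trace_mul_comm g]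
          simp only [Matrix.mul_assoc]
      rw [e, mul_zero] at hc
      have hunit : IsUnit (ρ (levi g hg)) := by
        exact (Group.isUnit (levi g hg)).map ρ
      exact (hunit.mul_left_eq_zero).1 hc.symm
  obtain ⟨B, hB⟩ : ∃ B, B ∈ T := by
    by_contra h
    push Not at h
    simp only [T, Finset.mem_filter, Finset.mem_univ, true_and, not_and, not_not] at h
    have hz : ∀ w, w ≠ 0 → E w = 0 := fun w hw => by
      have := h (mat w) fun e => hw (by rw [← unmat_mat w, e]; rfl)
      rwa [unmat_mat] at this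
    apply hv₀
    rw [CfsgLib.LinDeg.eq_sum_eigProj ψ hψ τ h0 hadd hK v₀, Finset.sum_eq_single 0]
    · have hs := CfsgLib.LinDeg.sum_eigProj ψ hψ τ h0 hK
      rw [Finset.sum_eq_single 0] at hs
      · rw [dotProduct_zero, AddChar.map_zero_eq_one, one_smul, hs]
      · exact fun w _ hw => hz w hw
      · simp
    · intro w _ hw; rw [← hE, hz w hw, smul_zero]
    · simp
  have hBs : B.IsSymm := by
    have hB' := (Finset.mem_filter.1 hB).2.2
    refine Matrix.IsSymm.ext fun i j => ?_
    by_contra hne'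
    apply hψ (sub_ne_zero.2 hne')
    ext a
    set v := unmat (Matrix.single j i a) with hv
    have h1 : τ v * E (unmat B) = ψ (v ⬝ᵥ unmat B) • E (unmat B) := CfsgLib.LinDeg.mul_eigProj ψ τ hadd v _
    have h2 := CfsgLib.LinDeg.mul_eigProj ψ τ hadd (unmat (mat v)ᵀ) (unmat B)
    rw [htr, ← hE, h1] at h2
    have h3 : ψ (v ⬝ᵥ unmat B) = ψ (unmat (mat v)ᵀ ⬝ᵥ unmat B) := smul_left_injective ℂ hB' h2
    simp only [hv, dot_eq_trace, mat_unmat] at h3
    simp [Matrix.trace_single_mul, transpose_single] at h3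
    show ψ ((B j i - B i j) * a) = (1 : AddChar F ℂ) a
    rw [AddChar.one_apply, sub_mul, AddChar.map_sub_eq_div, mul_comm, h3, mul_comm, div_self]
    exact (ψ.val_isUnit _).ne_zero
  refine (orbit_card h2 n T hT B hB hBs (Finset.mem_filter.1 hB).2.1).trans ?_
  rw [CfsgLib.LinDeg.finrank_eq_sum_range E (fun i j => by
      convert CfsgLib.LinDeg.eigProj_mul ψ hψ τ hadd hK i j using 2) (CfsgLib.LinDeg.sum_eigProj ψ hψ τ h0 hK)]
  refine Nat.mul_le_mul_left 2 ?_
  calc T.card = ∑ w ∈ T.image unmat, 1 := by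
        rw [Finset.sum_const, smul_eq_mul, mul_one, Finset.card_image_of_injective _ fun a b h => by
          rw [← mat_unmat a, h, mat_unmat]]
    _ ≤ ∑ w ∈ T.image unmat, finrank ℂ (LinearMap.range (E w)) := by
      refine Finset.sum_le_sum fun w hw => ?_
      obtain ⟨C, hC, rfl⟩ := Finset.mem_image.1 hw
      rw [Nat.one_le_iff_ne_zero]
      intro h
      rw [Submodule.finrank_eq_zero, LinearMap.range_eq_bot] at h
      exact (Finset.mem_filter.1 hC).2.2 h
    _ ≤ _ := Finset.sum_le_sum_of_subset (Finset.subset_univ _)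

end CfsgLib.Classical.WeilSp
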