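/-
The Weil representation of a symplectic group over a field of odd order on the odd functions.
-/
import Mathlib
import Cfsg.Agent.Lib.Sp.Basic
import Cfsg.Agent.Lib.LinDeg.Spectral

set_option autoImplicit false

namespace CfsgLib.Classical.WeilSp

open Matrix Module CfsgLib.Sp

attribute [-simp] Matrix.mulVec_single_one Matrix.mulVec_single

variable {F : Type*} [Field F] {n : ℕ}

/-- The Heisenberg operators on functions. -/
noncomputable def wop (ψ : AddChar F ℂ) (v : Fin n ⊕ Fin n → F) : Module.End ℂ ((Fin n → F) → ℂ) where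
  toFun f x := ψ ((fun i => v (Sum.inr i)) ⬝ᵥ x + (2 : F)⁻¹ * ((fun i => v (Sum.inl i)) ⬝ᵥ fun i => v (Sum.inr i))) *
    f (x + fun i => v (Sum.inl i))
  map_add' f g := by ext x; simp [mul_add]
  map_smul' c f := by ext x; simp; ring

/-- The parity operator. -/
def parity (F : Type*) [Field F] (n : ℕ) : Module.End ℂ ((Fin n → F) → ℂ) where
  toFun f x := f (-x)
  map_add' _ _ := rfl
  map_smul' _ _ := rfl

theorem wop_apply (ψ : AddChar F ℂ) (v : Fin n ⊕ Fin n → F) (f : (Fin n → F) → ℂ) (x : Fin n → F) :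
    wop ψ v f x = ψ ((fun i => v (Sum.inr i)) ⬝ᵥ x + (2 : F)⁻¹ * ((fun i => v (Sum.inl i)) ⬝ᵥ fun i => v (Sum.inr i))) *
      f (x + fun i => v (Sum.inl i)) := rfl

theorem parity_apply (f : (Fin n → F) → ℂ) (x : Fin n → F) : parity F n f x = f (-x) := rfl

theorem parity_sq : parity F n * parity F n = 1 :=
  LinearMap.ext fun f => funext fun x => by simp [parity_apply]

theorem wop_mul (h2 : (2 : F) ≠ 0) (ψ : AddChar F ℂ) (u v : Fin n ⊕ Fin n → F) :
    wop ψ u * wop ψ v = ψ (-((2 : F)⁻¹ * sf u v)) • wop ψ (u + v) := by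
  refine LinearMap.ext fun f => funext fun x => ?_
  rw [Module.End.mul_apply, LinearMap.smul_apply, Pi.smul_apply, smul_eq_mul, wop_apply, wop_apply, wop_apply,
    ← mul_assoc, ← mul_assoc, ← AddChar.map_add_eq_mul, ← AddChar.map_add_eq_mul]
  have e1 : (fun i => (u + v) (Sum.inl i)) = (fun i => u (Sum.inl i)) + fun i => v (Sum.inl i) := rfl
  have e2 : (fun i => (u + v) (Sum.inr i)) = (fun i => u (Sum.inr i)) + fun i => v (Sum.inr i) := rfl
  have e3 : sf u v = ((fun i => u (Sum.inr i)) ⬝ᵥ fun i => v (Sum.inl i)) -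
      (fun i => u (Sum.inl i)) ⬝ᵥ fun i => v (Sum.inr i) := by
    rw [sf_eq]; simp [dotProduct, Finset.sum_sub_distrib]
  rw [e1, e2, e3]
  congr 2
  · simp only [dotProduct_add, add_dotProduct]
    rw [dotProduct_comm (fun i => v (Sum.inl i)) (fun i => u (Sum.inr i)),
      dotProduct_comm (fun i => v (Sum.inr i)) (fun i => u (Sum.inl i))]
    field_simp
    ring
  · rw [add_assoc]

theorem wop_zero (ψ : AddChar F ℂ) : wop ψ (0 : Fin n ⊕ Fin n → F) = 1 := by
  refine LinearMap.ext fun f => funext fun x => ?_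
  rw [wop_apply]
  simp [dotProduct, show (fun _ : Fin n => (0 : F)) = (0 : Fin n → F) from rfl]

theorem parity_wop (ψ : AddChar F ℂ) (v : Fin n ⊕ Fin n → F) :
    parity F n * wop ψ v = wop ψ (-v) * parity F n := by
  refine LinearMap.ext fun f => funext fun x => ?_
  simp only [Module.End.mul_apply, parity_apply, wop_apply]
  have e1 : (fun i => (-v) (Sum.inl i)) = -fun i => v (Sum.inl i) := rfl
  have e2 : (fun i => (-v) (Sum.inr i)) = -fun i => v (Sum.inr i) := rfl
  rw [e1, e2, neg_dotProduct_neg, neg_dotProduct, dotProduct_neg, neg_add_rev, neg_neg, add_comm (-x)]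

/-- The parity subspaces. -/
noncomputable def parSpace (F : Type*) [Field F] (n : ℕ) (ε : ℂ) : Submodule ℂ ((Fin n → F) → ℂ) :=
  LinearMap.ker (parity F n - ε • 1)

theorem mem_parSpace {ε : ℂ} {f : (Fin n → F) → ℂ} : f ∈ parSpace F n ε ↔ parity F n f = ε • f := by
  rw [parSpace, LinearMap.mem_ker, LinearMap.sub_apply, LinearMap.smul_apply, Module.End.one_apply, sub_eq_zero]

theorem preserve {T : Module.End ℂ ((Fin n → F) → ℂ)} (hT : T * parity F n = parity F n * T) (ε : ℂ) :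
    ∀ f ∈ parSpace F n ε, T f ∈ parSpace F n ε := fun f hf => by
  rw [mem_parSpace] at hf ⊢
  rw [← Module.End.mul_apply, ← hT, Module.End.mul_apply, hf, map_smul]

variable [Fintype F]

theorem two_ne (h2 : ringChar F ≠ 2) : (2 : F) ≠ 0 := Ring.two_ne_zero h2

theorem trace_parity (h2 : ringChar F ≠ 2) : LinearMap.trace ℂ _ (parity F n) = 1 := by
  classical
  rw [LinearMap.trace_eq_matrix_trace ℂ (Pi.basisFun ℂ (Fin n → F)), Matrix.trace, Finset.sum_eq_single 0]
  · simp [LinearMap.toMatrix_apply, parity_apply]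
  · intro x _ hx
    simp [LinearMap.toMatrix_apply, parity_apply]
    rw [Pi.single_apply, if_neg]
    intro e
    apply hx
    funext i
    have := congrFun e i
    simp at this
    have h' : (2 : F) * x i = 0 := by linear_combination -this
    exact (mul_eq_zero.1 h').resolve_left (two_ne h2)
  · simp

theorem finrank_parSpace (h2 : ringChar F ≠ 2) :
    2 * finrank ℂ ↥(parSpace F n 1) = Fintype.card F ^ n + 1 ∧
      2 * finrank ℂ ↥(parSpace F n (-1)) + 1 = Fintype.card F ^ n := by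
  have key : ∀ ε : ℂ, ε * ε = 1 → (finrank ℂ ↥(parSpace F n ε) : ℂ) =
      (2 : ℂ)⁻¹ * ((Fintype.card F : ℂ) ^ n + ε) := fun ε hε => by
    have hp : LinearMap.IsProj (parSpace F n ε) ((2 : ℂ)⁻¹ • (1 + ε • parity F n)) := by
      refine ⟨fun f => mem_parSpace.2 ?_, fun f hf => ?_⟩
      · rw [LinearMap.smul_apply, LinearMap.add_apply, LinearMap.smul_apply, Module.End.one_apply, map_smul, map_add,
          map_smul, ← Module.End.mul_apply, parity_sq, Module.End.one_apply]
        match_scalars <;> first | ring1 | linear_combination (2 : ℂ)⁻¹ * hε | linear_combination -(2 : ℂ)⁻¹ * hε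
      · rw [mem_parSpace] at hf
        rw [LinearMap.smul_apply, LinearMap.add_apply, LinearMap.smul_apply, Module.End.one_apply, hf, smul_smul, hε,
          one_smul, ← two_smul ℂ f, smul_smul, inv_mul_cancel₀ (two_ne_zero), one_smul]
    rw [← hp.trace, map_smul, map_add, map_smul, trace_parity h2, LinearMap.trace_one, Module.finrank_fintype_fun_eq_card]
    simp
  have h1 := key 1 (one_mul 1)
  have h1' := key (-1) (by norm_num)
  refine ⟨?_, ?_⟩
  · have : ((2 * finrank ℂ ↥(parSpace F n 1) : ℕ) : ℂ) = ((Fintype.card F ^ n + 1 : ℕ) : ℂ) := by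
      push_cast; rw [h1]; ring
    exact_mod_cast this
  · have : ((2 * finrank ℂ ↥(parSpace F n (-1)) + 1 : ℕ) : ℂ) = ((Fintype.card F ^ n : ℕ) : ℂ) := by
      push_cast; rw [h1']; ring
    exact_mod_cast this

variable (ψ : AddChar F ℂ) (hψ : ψ.IsPrimitive) (h2 : ringChar F ≠ 2)

include hψ in
theorem trace_wop [DecidableEq F] (v : Fin n ⊕ Fin n → F) :
    LinearMap.trace ℂ _ (wop ψ v) = if v = 0 then (Fintype.card F : ℂ) ^ n else 0 := by
  classical
  rw [LinearMap.trace_eq_matrix_trace ℂ (Pi.basisFun ℂ (Fin n → F)), Matrix.trace]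
  simp only [Matrix.diag_apply, LinearMap.toMatrix_apply, Pi.basisFun_apply, Pi.basisFun_repr, wop_apply,
    Pi.single_apply]
  by_cases ha : (fun i => v (Sum.inl i)) = 0
  · simp only [ha, add_zero, if_true, mul_one, zero_dotProduct, mul_zero]
    by_cases hv : v = 0
    · subst hv
      simp [dotProduct]
    · rw [if_neg hv]
      simp only [dotProduct_comm (fun i => v (Sum.inr i))]
      exact CfsgLib.LinDeg.sum_char_dot ψ hψ fun hb => hv (funext fun s => by
        rcases s with i | i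
        · exact congrFun ha i
        · exact congrFun hb i)
  · rw [if_neg (fun hv => ha (by rw [hv]; rfl))]
    refine Finset.sum_eq_zero fun x _ => ?_
    rw [if_neg, mul_zero]
    intro e
    exact ha (add_eq_left.1 e)

include hψ h2 in
theorem wop_linearIndependent : LinearIndependent ℂ (wop (n := n) ψ) := by
  classical
  rw [Fintype.linearIndependent_iff]
  intro c hc v₀
  have h := congrArg (fun X => LinearMap.trace ℂ _ (wop ψ (-v₀) * X)) hc
  simp only [Finset.mul_sum, mul_smul_comm, map_sum, map_smul, mul_zero, map_zero, wop_mul (two_ne h2),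
    trace_wop ψ hψ, smul_eq_mul] at h
  rw [Finset.sum_eq_single v₀] at h
  · rw [if_pos (neg_add_cancel v₀)] at h
    simp only [mul_eq_zero, pow_eq_zero_iff', Nat.cast_eq_zero, Fintype.card_ne_zero, false_and, or_false] at h
    exact h.resolve_right (ψ.val_isUnit _).ne_zero
  · intro v _ hv
    rw [if_neg (fun e => hv (neg_add_eq_zero.1 e).symm), mul_zero, mul_zero]
  · simp

include hψ h2 in
theorem exists_intertwiner (g : Matrix.symplecticGroup (Fin n) F) :
    ∃ T : Module.End ℂ ((Fin n → F) → ℂ), IsUnit T ∧ ∀ v, T * wop ψ v = wop ψ (g.1 *ᵥ v) * T := by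
  classical
  have hcard : Fintype.card (Fin n ⊕ Fin n → F) = finrank ℂ (Module.End ℂ ((Fin n → F) → ℂ)) := by
    rw [Module.finrank_linearMap, Module.finrank_fintype_fun_eq_card]
    simp [pow_add]
  let b := basisOfLinearIndependentOfCardEqFinrank (wop_linearIndependent ψ hψ h2) hcard
  have hb : ∀ v, b v = wop ψ v := fun v => by simp [b]
  let σ : (Fin n ⊕ Fin n → F) ≃ (Fin n ⊕ Fin n → F) :=
    { toFun := fun v => g.1 *ᵥ v
      invFun := fun v => (g⁻¹).1 *ᵥ v
      left_inv := fun v => by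
        show (g⁻¹).1 *ᵥ (g.1 *ᵥ v) = v
        rw [← sp_mul_mulVec, inv_mul_cancel]; exact Matrix.one_mulVec v
      right_inv := fun v => sp_mulVec_inv g v }
  let Φ := b.equiv b σ
  have hΦ : ∀ v, Φ (wop ψ v) = wop ψ (g.1 *ᵥ v) := fun v => by
    rw [← hb v, Module.Basis.equiv_apply, hb]; rfl
  have hmul : ∀ x y, Φ (x * y) = Φ x * Φ y := by
    have e : (LinearMap.mul ℂ (Module.End ℂ ((Fin n → F) → ℂ))).compr₂ Φ.toLinearMap =
        (LinearMap.mul ℂ (Module.End ℂ ((Fin n → F) → ℂ))).compl₁₂ Φ.toLinearMap Φ.toLinearMap := by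
      refine b.ext fun u => b.ext fun v => ?_
      simp only [LinearMap.compr₂_apply, LinearMap.compl₁₂_apply, LinearMap.mul_apply', LinearEquiv.coe_coe, hb]
      rw [hΦ, hΦ, wop_mul (two_ne h2), wop_mul (two_ne h2), map_smul, hΦ, Matrix.mulVec_add, sf_sp]
    exact fun x y => LinearMap.congr_fun (LinearMap.congr_fun e x) y
  have h1 : Φ 1 = 1 := by
    have := hΦ 0
    rwa [Matrix.mulVec_zero, wop_zero] at this
  obtain ⟨T, hT⟩ := (AlgEquiv.ofLinearEquiv Φ h1 hmul).eq_linearEquivConjAlgEquiv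
  refine ⟨T.toLinearMap, (LinearMap.GeneralLinearGroup.ofLinearEquiv T).isUnit, fun v => LinearMap.ext fun f => ?_⟩
  have h := LinearMap.congr_fun (AlgEquiv.congr_fun hT (wop ψ v)) (T f)
  rw [show AlgEquiv.ofLinearEquiv Φ h1 hmul (wop ψ v) = Φ (wop ψ v) from rfl, hΦ, LinearEquiv.conjAlgEquiv_apply] at h
  simp only [LinearMap.comp_apply, LinearEquiv.coe_coe, LinearEquiv.symm_apply_apply] at h
  exact h.symm

include hψ h2 in
theorem scalar_of_commute {X : Module.End ℂ ((Fin n → F) → ℂ)} (h : ∀ v, X * wop ψ v = wop ψ v * X) :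
    ∃ c : ℂ, X = c • 1 := by
  classical
  have hcard : Fintype.card (Fin n ⊕ Fin n → F) = finrank ℂ (Module.End ℂ ((Fin n → F) → ℂ)) := by
    rw [Module.finrank_linearMap, Module.finrank_fintype_fun_eq_card]
    simp [pow_add]
  let b := basisOfLinearIndependentOfCardEqFinrank (wop_linearIndependent ψ hψ h2) hcard
  have hall : ∀ Y, X * Y = Y * X := fun Y => by
    have e : LinearMap.mulLeft ℂ X = LinearMap.mulRight ℂ X := b.ext fun v => by simpa [b] using h v
    exact LinearMap.congr_fun e Y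
  refine ⟨X (Pi.single 0 1) 0, LinearMap.ext fun f => ?_⟩
  let E : Module.End ℂ ((Fin n → F) → ℂ) := (LinearMap.proj (0 : Fin n → F)).smulRight f
  have := LinearMap.congr_fun (hall E) (Pi.single 0 1)
  simpa [E] using this

/-- Normalized intertwiners. -/
def IsWeil (g : Matrix.symplecticGroup (Fin n) F) (T : Module.End ℂ ((Fin n → F) → ℂ)) : Prop :=
  IsUnit T ∧ (∀ v, T * wop ψ v = wop ψ (g.1 *ᵥ v) * T) ∧ ∃ h : T * parity F n = parity F n * T,
    LinearMap.det (T.restrict (preserve h 1)) = LinearMap.det (T.restrict (preserve h (-1)))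

include hψ h2 in
theorem exists_parity_commute {g : Matrix.symplecticGroup (Fin n) F} {T : Module.End ℂ ((Fin n → F) → ℂ)}
    (hu : IsUnit T) (h : ∀ v, T * wop ψ v = wop ψ (g.1 *ᵥ v) * T) : T * parity F n = parity F n * T := by
  obtain ⟨u, rfl⟩ := hu
  set P := parity F n with hP
  have hZ : ∀ v, (((u⁻¹ : (Module.End ℂ ((Fin n → F) → ℂ))ˣ) : Module.End ℂ ((Fin n → F) → ℂ)) * P * (u : Module.End ℂ ((Fin n → F) → ℂ)) * P) * wop ψ v = wop ψ v * (((u⁻¹ : (Module.End ℂ ((Fin n → F) → ℂ))ˣ) : Module.End ℂ ((Fin n → F) → ℂ)) * P * (u : Module.End ℂ ((Fin n → F) → ℂ)) * P) := by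
    intro v
    have hinv : ∀ w, ((u⁻¹ : (Module.End ℂ ((Fin n → F) → ℂ))ˣ) : Module.End ℂ ((Fin n → F) → ℂ)) * wop ψ (g.1 *ᵥ w) = wop ψ w * ((u⁻¹ : (Module.End ℂ ((Fin n → F) → ℂ))ˣ) : Module.End ℂ ((Fin n → F) → ℂ)) := fun w => by
      rw [← mul_one (((u⁻¹ : (Module.End ℂ ((Fin n → F) → ℂ))ˣ) : Module.End ℂ ((Fin n → F) → ℂ)) * wop ψ (g.1 *ᵥ w)), ← Units.mul_inv u, ← mul_assoc, mul_assoc ((u⁻¹ : (Module.End ℂ ((Fin n → F) → ℂ))ˣ) : Module.End ℂ ((Fin n → F) → ℂ)), ← h w,
        ← mul_assoc ((u⁻¹ : (Module.End ℂ ((Fin n → F) → ℂ))ˣ) : Module.End ℂ ((Fin n → F) → ℂ)), Units.inv_mul, one_mul]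
    calc ((u⁻¹ : (Module.End ℂ ((Fin n → F) → ℂ))ˣ) : Module.End ℂ ((Fin n → F) → ℂ)) * P * ↑u * P * wop ψ v = ((u⁻¹ : (Module.End ℂ ((Fin n → F) → ℂ))ˣ) : Module.End ℂ ((Fin n → F) → ℂ)) * P * ↑u * wop ψ (-v) * P := by
          rw [mul_assoc (((u⁻¹ : (Module.End ℂ ((Fin n → F) → ℂ))ˣ) : Module.End ℂ ((Fin n → F) → ℂ)) * P * ↑u), parity_wop, ← mul_assoc]
      _ = ((u⁻¹ : (Module.End ℂ ((Fin n → F) → ℂ))ˣ) : Module.End ℂ ((Fin n → F) → ℂ)) * P * wop ψ (g.1 *ᵥ (-v)) * ↑u * P := by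
          rw [mul_assoc (((u⁻¹ : (Module.End ℂ ((Fin n → F) → ℂ))ˣ) : Module.End ℂ ((Fin n → F) → ℂ)) * P), h, ← mul_assoc]
      _ = ((u⁻¹ : (Module.End ℂ ((Fin n → F) → ℂ))ˣ) : Module.End ℂ ((Fin n → F) → ℂ)) * wop ψ (g.1 *ᵥ v) * P * ↑u * P := by
          rw [mul_assoc ((u⁻¹ : (Module.End ℂ ((Fin n → F) → ℂ))ˣ) : Module.End ℂ ((Fin n → F) → ℂ)) P, parity_wop, Matrix.mulVec_neg, neg_neg, ← mul_assoc]
      _ = wop ψ v * (((u⁻¹ : (Module.End ℂ ((Fin n → F) → ℂ))ˣ) : Module.End ℂ ((Fin n → F) → ℂ)) * P * (u : Module.End ℂ ((Fin n → F) → ℂ)) * P) := by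
          rw [hinv]; simp only [mul_assoc]
  obtain ⟨c, hc⟩ := scalar_of_commute ψ hψ h2 hZ
  have hc' : ((u⁻¹ : (Module.End ℂ ((Fin n → F) → ℂ))ˣ) : Module.End ℂ ((Fin n → F) → ℂ)) * P * ↑u = c • P := by
    have := congrArg (fun X => X * P) hc
    simpa [mul_assoc, parity_sq, hP] using this
  have hc1 : c = 1 := by
    have := congrArg (LinearMap.trace ℂ _) hc'
    rw [LinearMap.trace_mul_comm, ← mul_assoc, Units.mul_inv, one_mul, map_smul, hP, trace_parity h2, smul_eq_mul,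
      mul_one] at this
    exact this.symm
  rw [hc1, one_smul] at hc'
  conv_lhs => rw [← hc']
  rw [mul_assoc, ← mul_assoc, ← mul_assoc, Units.mul_inv, one_mul]

theorem det_smul_restrict {T : Module.End ℂ ((Fin n → F) → ℂ)} {U : Submodule ℂ ((Fin n → F) → ℂ)}
    (hT : ∀ f ∈ U, T f ∈ U) (c : ℂ) (hcT : ∀ f ∈ U, (c • T) f ∈ U) :
    LinearMap.det ((c • T).restrict hcT) = c ^ finrank ℂ U * LinearMap.det (T.restrict hT) := by
  rw [show (c • T).restrict hcT = c • T.restrict hT from LinearMap.ext fun f => rfl, LinearMap.det_smul]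

include hψ h2 in
theorem existsUnique_weil (g : Matrix.symplecticGroup (Fin n) F) : ∃! T, IsWeil ψ g T := by
  have hd : finrank ℂ ↥(parSpace F n 1) = finrank ℂ ↥(parSpace F n (-1)) + 1 := by
    obtain ⟨h1, h1'⟩ := finrank_parSpace (n := n) h2
    omega
  have hdet : ∀ {T : Module.End ℂ ((Fin n → F) → ℂ)} (ε : ℂ) (h : T * parity F n = parity F n * T), IsUnit T →
      LinearMap.det (T.restrict (preserve h ε)) ≠ 0 := by
    intro T ε h hu h0
    obtain ⟨⟨f, hf⟩, hfk, hf0⟩ := Submodule.exists_mem_ne_zero_of_ne_bot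
      (bot_lt_iff_ne_bot.1 (LinearMap.bot_lt_ker_of_det_eq_zero h0))
    apply hf0
    refine Subtype.ext ?_
    have hz : T f = 0 := congrArg Subtype.val (LinearMap.mem_ker.1 hfk)
    obtain ⟨u, rfl⟩ := hu
    have := congrArg ((u⁻¹ : (Module.End ℂ ((Fin n → F) → ℂ))ˣ) : Module.End ℂ ((Fin n → F) → ℂ)) hz
    rwa [← Module.End.mul_apply, Units.inv_mul, Module.End.one_apply, map_zero] at this
  obtain ⟨T₀, hu, hi⟩ := exists_intertwiner ψ hψ h2 g
  have hp := exists_parity_commute ψ hψ h2 hu hi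
  set dp := LinearMap.det (T₀.restrict (preserve hp 1))
  set dm := LinearMap.det (T₀.restrict (preserve hp (-1)))
  have hc : dm / dp ≠ 0 := div_ne_zero (hdet _ hp hu) (hdet _ hp hu)
  refine ⟨(dm / dp) • T₀, ⟨?_, fun v => by rw [smul_mul_assoc, hi, mul_smul_comm],
    by rw [smul_mul_assoc, hp, mul_smul_comm], ?_⟩, ?_⟩
  · obtain ⟨u, rfl⟩ := hu
    exact ⟨(Units.mk0 _ hc) • u, rfl⟩
  · rw [det_smul_restrict (preserve hp 1), det_smul_restrict (preserve hp (-1)), hd, pow_succ]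
    have := hdet 1 hp hu
    change (dm / dp) ^ _ * (dm / dp) * dp = (dm / dp) ^ _ * dm
    rw [mul_assoc, div_mul_cancel₀ _ this]
  · intro T ⟨hTu, hTi, hTp, hTd⟩
    obtain ⟨u, rfl⟩ := hu
    obtain ⟨c, hc'⟩ := scalar_of_commute ψ hψ h2 (X := ((u⁻¹ : (Module.End ℂ ((Fin n → F) → ℂ))ˣ) : Module.End ℂ ((Fin n → F) → ℂ)) * T) fun v => by
      rw [mul_assoc, hTi, ← mul_assoc, ← mul_assoc]
      congr 1
      rw [← mul_one (((u⁻¹ : (Module.End ℂ ((Fin n → F) → ℂ))ˣ) : Module.End ℂ ((Fin n → F) → ℂ)) * wop ψ (g.1 *ᵥ v)), ← Units.mul_inv u, ← mul_assoc, mul_assoc ((u⁻¹ : (Module.End ℂ ((Fin n → F) → ℂ))ˣ) : Module.End ℂ ((Fin n → F) → ℂ)), ← hi v,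
        ← mul_assoc ((u⁻¹ : (Module.End ℂ ((Fin n → F) → ℂ))ˣ) : Module.End ℂ ((Fin n → F) → ℂ)), Units.inv_mul, one_mul]
    have hT : T = c • (u : Module.End ℂ ((Fin n → F) → ℂ)) := by
      have := congrArg (fun X => (u : Module.End ℂ ((Fin n → F) → ℂ)) * X) hc'
      simpa [← mul_assoc] using this
    subst hT
    rw [det_smul_restrict (preserve hp 1), det_smul_restrict (preserve hp (-1)), hd, pow_succ] at hTd
    have hc0 : c ≠ 0 := fun e => by
      obtain ⟨w, hw⟩ := hTu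
      rw [e, zero_smul] at hw
      have h1' := trace_parity (F := F) (n := n) h2
      rw [← mul_one (parity F n), ← Units.mul_inv w, hw, zero_mul, mul_zero, map_zero] at h1'
      exact zero_ne_one h1'
    have hcd : c * dp = dm := mul_left_cancel₀ (pow_ne_zero _ hc0) ((mul_assoc _ _ _).symm.trans hTd)
    rw [← hcd, mul_div_cancel_right₀ _ (hdet 1 hp u.isUnit)]

include hψ h2 in
theorem isWeil_mul {g h : Matrix.symplecticGroup (Fin n) F} {S T : Module.End ℂ ((Fin n → F) → ℂ)}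
    (hS : IsWeil ψ g S) (hT : IsWeil ψ h T) : IsWeil ψ (g * h) (S * T) := by
  obtain ⟨hSu, hSi, hSp, hSd⟩ := hS
  obtain ⟨hTu, hTi, hTp, hTd⟩ := hT
  have hp : S * T * parity F n = parity F n * (S * T) := by rw [mul_assoc, hTp, ← mul_assoc, hSp, mul_assoc]
  refine ⟨hSu.mul hTu, fun v => by rw [mul_assoc, hTi, ← mul_assoc, hSi, mul_assoc, sp_mul_mulVec], hp, ?_⟩
  have e : ∀ ε, LinearMap.det ((S * T).restrict (preserve hp ε)) =
      LinearMap.det (S.restrict (preserve hSp ε)) * LinearMap.det (T.restrict (preserve hTp ε)) := fun ε => by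
    rw [← map_mul]
    rfl
  rw [e, e, hSd, hTd]

/-- The normalized intertwiner. -/
noncomputable def weilOp (g : Matrix.symplecticGroup (Fin n) F) : Module.End ℂ ((Fin n → F) → ℂ) :=
  (existsUnique_weil ψ hψ h2 g).choose

theorem weilOp_spec (g : Matrix.symplecticGroup (Fin n) F) : IsWeil ψ g (weilOp ψ hψ h2 g) :=
  (existsUnique_weil ψ hψ h2 g).choose_spec.1

theorem weilOp_eq {g : Matrix.symplecticGroup (Fin n) F} {T : Module.End ℂ ((Fin n → F) → ℂ)} (hT : IsWeil ψ g T) :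
    weilOp ψ hψ h2 g = T :=
  ((existsUnique_weil ψ hψ h2 g).choose_spec.2 T hT).symm

theorem weilOp_mul (g h : Matrix.symplecticGroup (Fin n) F) :
    weilOp ψ hψ h2 (g * h) = weilOp ψ hψ h2 g * weilOp ψ hψ h2 h :=
  weilOp_eq ψ hψ h2 (isWeil_mul ψ hψ h2 (weilOp_spec ψ hψ h2 g) (weilOp_spec ψ hψ h2 h))

theorem weilOp_one : weilOp ψ hψ h2 (1 : Matrix.symplecticGroup (Fin n) F) = 1 := by
  refine weilOp_eq ψ hψ h2 ⟨isUnit_one, fun v => ?_, by rw [one_mul, mul_one], ?_⟩
  · rw [one_mul, mul_one]; exact congrArg (wop ψ) (Matrix.one_mulVec v).symm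
  · rw [show ∀ (U : Submodule ℂ ((Fin n → F) → ℂ)) (h : ∀ f ∈ U, (1 : Module.End ℂ ((Fin n → F) → ℂ)) f ∈ U),
      (1 : Module.End ℂ ((Fin n → F) → ℂ)).restrict h = LinearMap.id from fun U h => rfl,
      show ∀ (U : Submodule ℂ ((Fin n → F) → ℂ)) (h : ∀ f ∈ U, (1 : Module.End ℂ ((Fin n → F) → ℂ)) f ∈ U),
      (1 : Module.End ℂ ((Fin n → F) → ℂ)).restrict h = LinearMap.id from fun U h => rfl, LinearMap.det_id,
      LinearMap.det_id]

/-- The Weil representation on odd functions. -/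
noncomputable def weilRep : Representation ℂ (Matrix.symplecticGroup (Fin n) F) ↥(parSpace F n (-1)) where
  toFun g := (weilOp ψ hψ h2 g).restrict (preserve (weilOp_spec ψ hψ h2 g).2.2.choose (-1))
  map_one' := LinearMap.ext fun f => Subtype.ext (by simp [LinearMap.restrict_coe_apply, weilOp_one])
  map_mul' g h := LinearMap.ext fun f => Subtype.ext (by simp [LinearMap.restrict_coe_apply, weilOp_mul])

theorem weilRep_ne_one (hn : 2 ≤ n) : ∃ g, weilRep ψ hψ h2 (n := n) g ≠ 1 := by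
  classical
  by_contra hall
  push Not at hall
  set y : Fin n → F := Pi.single ⟨0, by omega⟩ 1 with hy
  set x : Fin n → F := Pi.single ⟨1, by omega⟩ 1 with hx
  have hy0 : y ≠ 0 := Pi.single_ne_zero_iff.2 one_ne_zero
  have hx0 : x ≠ 0 := Pi.single_ne_zero_iff.2 one_ne_zero
  have hxy : x ≠ y := fun e => by
    have := congrFun e ⟨1, by omega⟩
    simp [hx, hy, Fin.ext_iff] at this
  have hxy' : x ≠ -y := fun e => by
    have := congrFun e ⟨1, by omega⟩
    simp [hx, hy, Fin.ext_iff] at this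
  have hyy : y ≠ -y := fun e => by
    have := congrFun e ⟨0, by omega⟩
    simp [hy] at this
    exact two_ne h2 (by linear_combination this)
  set b := y - x with hb
  have hb0 : b ≠ 0 := sub_ne_zero.2 hxy.symm
  set v : Fin n ⊕ Fin n → F := Sum.elim 0 b with hv
  set w : Fin n ⊕ Fin n → F := Sum.elim b 0 with hw
  obtain ⟨g, hg⟩ := exists_move (v := v) (w := w)
    (fun e => hb0 (funext fun i => congrFun e (Sum.inr i))) (fun e => hb0 (funext fun i => congrFun e (Sum.inl i)))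
  obtain ⟨hu, hi, hp, -⟩ := weilOp_spec ψ hψ h2 g
  set T := weilOp ψ hψ h2 g
  have hfix : ∀ f, parity F n f = (-1 : ℂ) • f → T f = f := fun f hf =>
    congrArg Subtype.val (LinearMap.congr_fun (hall g) ⟨f, mem_parSpace.2 hf⟩)
  set f : (Fin n → F) → ℂ := Pi.single y 1 - Pi.single (-y) 1 with hf
  have hodd : parity F n f = (-1 : ℂ) • f := funext fun z => by
    simp [parity_apply, hf, Pi.single_apply, neg_eq_iff_eq_neg]
  have hW : parity F n ((wop ψ v + wop ψ (-v)) f) = (-1 : ℂ) • (wop ψ v + wop ψ (-v)) f := by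
    rw [LinearMap.add_apply, map_add, ← Module.End.mul_apply, parity_wop, ← Module.End.mul_apply (parity F n), parity_wop,
      neg_neg, Module.End.mul_apply, Module.End.mul_apply, hodd, map_smul, map_smul, ← smul_add, add_comm]
  have key : (wop ψ v + wop ψ (-v)) f = (wop ψ w + wop ψ (-w)) f := by
    conv_lhs => rw [← hfix _ hW]
    rw [← Module.End.mul_apply, mul_add, hi, hi, Matrix.mulVec_neg, hg, ← add_mul, Module.End.mul_apply, hfix f hodd]
  have h := congrFun key x
  have hz : (fun _ : Fin n => (0 : F)) = 0 := rfl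
  have e1 : f x = 0 := by simp [hf, Pi.single_apply, hxy, hxy']
  have e2 : f (x + b) = 1 := by simp [hf, Pi.single_apply, hb, hyy]
  have e3 : f (x + -b) = 0 := by
    have n1 : x + -b ≠ y := fun e => hxy (funext fun i => by
      have := congrFun e i
      simp [hb] at this
      have h' : (2 : F) * (x i - y i) = 0 := by linear_combination this
      exact sub_eq_zero.1 ((mul_eq_zero.1 h').resolve_left (two_ne h2)))
    have n2 : x + -b ≠ -y := fun e => hx0 (funext fun i => by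
      have := congrFun e i
      simp [hb] at this
      have h' : (2 : F) * x i = 0 := by linear_combination this
      exact (mul_eq_zero.1 h').resolve_left (two_ne h2))
    simp [hf, Pi.single_apply, n1, n2]
  simp [wop_apply, hv, hw, hz, e1, e2, e3, ← Pi.neg_def] at h

end CfsgLib.Classical.WeilSp
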